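import Cfsg.Agent.Chev.Univ.FTwo.Lift
import Cfsg.Agent.Schur.UniversalCover

/-! Central extensions of F4 over two elements satisfy the relations of the double cover. -/

set_option autoImplicit false

open Cfsg.Lie

namespace Cfsg.Lib.Chev.Univ.FTwo

theorem code_split {r s : ℕ} (hs : s < 48) : (48 * r + s) / 48 = r ∧ (48 * r + s) % 48 = s :=
  ⟨by omega, by omega⟩

theorem prodErr_eq_one {E : Type*} [Group E] {y : ℕ → E} :
    ∀ {l : List (ℕ × ℤ)}, (∀ e ∈ l, e.2 = 0) → prodErr y l = 1
  | [], _ => rfl
  | e :: l, h => by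
    show _ ^ e.2 * prodErr y l = 1
    rw [h e List.mem_cons_self, zpow_zero, one_mul, prodErr_eq_one fun e' he => h e' (List.mem_cons_of_mem _ he)]

theorem known_foldl {E : Type*} [Group E] {y : ℕ → E} {c : E} : ∀ (l : List (ℕ × ℕ)) {K : ℕ}, Known y c K →
    (∀ e ∈ l, e.2 < 48 ∧ Good y c e.1 e.2) → Known y c (l.foldl (fun K e => addBit K (48 * e.1 + e.2)) K)
  | [], _, hK, _ => hK
  | e :: l, K, hK, h => by
    refine known_foldl l (known_add hK ?_) fun e' he => h e' (List.mem_cons_of_mem _ he)
    obtain ⟨h1, h2⟩ := code_split (r := e.1) (h e List.mem_cons_self).1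
    rw [h1, h2]
    exact (h e List.mem_cons_self).2

theorem comm_central {E : Type*} [Group E] (s a : E) {z w : E} (hz : z ∈ Subgroup.center E)
    (hw : w ∈ Subgroup.center E) : (s * z)⁻¹ * (a * w)⁻¹ * (s * z) * (a * w) = s⁻¹ * a⁻¹ * s * a := by
  have hz' : ∀ g, g * z = z * g := Subgroup.mem_center_iff.1 hz
  have hw' : ∀ g, g * w = w * g := Subgroup.mem_center_iff.1 hw
  have hw'' : ∀ g, g * w⁻¹ = w⁻¹ * g := Subgroup.mem_center_iff.1 (inv_mem hw)
  have h1 : ∀ x, (s * z)⁻¹ * x * (s * z) = s⁻¹ * x * s := by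
    intro x
    rw [show (s * z)⁻¹ * x * (s * z) = z⁻¹ * (s⁻¹ * x * s * z) by group, hz']
    group
  rw [h1, mul_inv_rev, ← mul_assoc s⁻¹, hw'']
  simp only [mul_assoc]
  rw [← mul_assoc a⁻¹, ← mul_assoc (a⁻¹ * s), ← mul_assoc s⁻¹, hw', inv_mul_cancel_left]
  simp only [mul_assoc]

/-- A central extension of a group with root elements has root elements satisfying the relations of the cover. -/
theorem exists_lift {Γ G : Type*} [Group Γ] [Group G] (σ : Γ →* G) (hs : Function.Surjective σ)
    (hz : σ.ker ≤ Subgroup.center Γ) {x : ℕ → G} (hx : Rels x) :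
    ∃ (y : ℕ → Γ) (c : Γ), c ∈ Subgroup.center Γ ∧ σ c = 1 ∧ c ^ 2 = 1 ∧ (∀ r, σ (y r) = x r) ∧
      ∀ r s, valid r s = true → Good y c r s := by
  obtain ⟨hlen, hg, hc1, hc2, hc3, hc4⟩ := gauge_ok
  let y0 : ℕ → Γ := fun r => Function.surjInv hs (x r)
  let cm : ℕ → ℕ → Γ := fun a s => (y0 s)⁻¹ * (y0 a)⁻¹ * y0 s * y0 a
  let y : ℕ → Γ := fun r => if r < 48 then cm (gauge.getD r (0, 0)).1 (gauge.getD r (0, 0)).2 else y0 r
  have hy0 : ∀ r, σ (y0 r) = x r := fun r => Function.surjInv_eq hs _
  have hgauge : ∀ r < 48, (gauge.getD r (0, 0)).1 < (gauge.getD r (0, 0)).2 ∧ (gauge.getD r (0, 0)).2 < 48 ∧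
      (gauge.getD r (0, 0)).1 + (gauge.getD r (0, 0)).2 ≠ 47 ∧
      terms (gauge.getD r (0, 0)).1 (gauge.getD r (0, 0)).2 = [r] ∧
      expo (gauge.getD r (0, 0)).1 (gauge.getD r (0, 0)).2 = 0 := by
    intro r hr
    have := List.all_eq_true.1 hg r (List.mem_range.2 hr)
    simp only [Bool.and_eq_true, Bool.not_eq_true', decide_eq_true_eq] at this
    obtain ⟨⟨⟨⟨h1, h2⟩, h3⟩, h4⟩, h5⟩ := this
    exact ⟨Nat.le_of_ble_eq_true h1, Nat.le_of_ble_eq_true h2, fun e => by rw [e] at h3; exact absurd h3 (by decide),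
      eqL_eq h4, h5⟩
  have hy : ∀ r, σ (y r) = x r := by
    intro r
    simp only [y]
    split_ifs with hr
    · obtain ⟨h1, h2, h3, h4, -⟩ := hgauge r hr
      have := hx.swap h1 h2 h3
      rw [h4] at this
      simp only [val, List.map_cons, List.map_nil, List.prod_cons, List.prod_nil, mul_one] at this
      simp only [cm, map_mul, map_inv, hy0]
      rw [mul_assoc _ (x _) (x _), this]
      group
    · exact hy0 r
  have hval : ∀ w : List ℕ, σ (val y w) = val x w := fun w => by
    rw [val, val, map_list_prod, List.map_map]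
    exact congrArg List.prod (List.map_congr_left fun r _ => hy r)
  have hv : ∀ r s, valid r s = true → err y r s ∈ Subgroup.center Γ := fun r s h => hz (by
    rw [MonoidHom.mem_ker, err, map_mul, map_inv, hval, hval, hx r s h, inv_mul_cancel])
  have hcv : valid cPair.1 cPair.2 = true := valid_lt (Nat.le_of_ble_eq_true hc1) (Nat.le_of_ble_eq_true hc2)
    fun e => by rw [e] at hc3; exact absurd hc3 (by decide)
  set c := err y cPair.1 cPair.2
  have hc : c ∈ Subgroup.center Γ := hv _ _ hcv
  have hσc : σ c = 1 := by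
    show σ ((val y _)⁻¹ * val y _) = 1
    rw [map_mul, map_inv, hval, hval, hx _ _ hcv, inv_mul_cancel]
  have hG : ∀ r < 48, Good y c (gauge.getD r (0, 0)).1 (gauge.getD r (0, 0)).2 := by
    intro r hr
    obtain ⟨h1, h2, h3, h4, h5⟩ := hgauge r hr
    have hd : ∀ i, y0 i * ((y0 i)⁻¹ * y i) = y i ∧ (y0 i)⁻¹ * y i ∈ Subgroup.center Γ := fun i =>
      ⟨mul_inv_cancel_left _ _, hz (by rw [MonoidHom.mem_ker, map_mul, map_inv, hy0, hy, inv_mul_cancel])⟩
    generalize hea : (gauge.getD r (0, 0)).1 = a at *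
    generalize hes : (gauge.getD r (0, 0)).2 = s at *
    have hr' : y r = (y s)⁻¹ * (y a)⁻¹ * y s * y a := by
      rw [← (hd s).1, ← (hd a).1, comm_central _ _ (hd s).2 (hd a).2]
      simp only [y, cm, if_pos hr, hea, hes]
    rw [Good, h5, zpow_zero, mul_one]
    simp only [lhs, rhs, beq_false h1.ne, cond_false, h4, val, List.map_cons, List.map_nil, List.prod_cons,
      List.prod_nil, mul_one]
    rw [hr']
    group
  have hseed : Known y c seed := by
    refine known_foldl gauge ?_ fun e he => ?_
    · refine known_add (fun id h => absurd h (by simp)) ?_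
      obtain ⟨h1, h2⟩ := code_split (r := cPair.1) (Nat.le_of_ble_eq_true hc2)
      rw [h1, h2, Good, hc4, zpow_one]
      exact val_lhs y _ _
    · obtain ⟨i, hi, rfl⟩ := List.getElem_of_mem he
      rw [← List.getD_eq_getElem gauge (0, 0) hi]
      exact ⟨(hgauge i (hlen ▸ hi)).2.1, hG i (hlen ▸ hi)⟩
  obtain ⟨hsome, hall, hfin⟩ := derived_ok
  have hD : Known y c derived := by
    refine runAll_sound (ls := allSteps) hc hv hseed ?_
    rw [derived]
    obtain ⟨K, hK⟩ := Option.isSome_iff_exists.1 hsome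
    rw [hK]
    rfl
  refine ⟨y, c, hc, hσc, ?_, hy, fun r s h => ?_⟩
  · rw [finOK] at hfin
    cases hr : run derived finStep.2 (finStep.1, [], 0) with
    | none => rw [hr] at hfin; simp at hfin
    | some X =>
      rw [hr] at hfin
      simp only [Bool.and_eq_true, List.all_eq_true, decide_eq_true_eq] at hfin
      have e := loop_sound hD hc hv hr hfin.1.1
      rw [prodErr_eq_one hfin.1.2, one_mul] at e
      rcases Int.natAbs_eq X.2.2 with h | h <;> rw [Nat.eq_of_beq_eq_true hfin.2] at h <;> rw [h] at e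
      · exact_mod_cast e
      · rw [zpow_neg, inv_eq_one] at e
        exact_mod_cast e
  · have hrs : r < 48 ∧ s < 48 := by
      simp only [valid, Bool.and_eq_true] at h
      exact ⟨Nat.le_of_ble_eq_true h.1.1, Nat.le_of_ble_eq_true h.1.2⟩
    have h' := List.all_eq_true.1 (List.all_eq_true.1 hall r (List.mem_range.2 hrs.1)) s (List.mem_range.2 hrs.2)
    rw [h, Bool.not_true, Bool.false_or] at h'
    obtain ⟨h1, h2⟩ := code_split (r := r) hrs.2
    have := hD _ h'
    rwa [h1, h2] at this

variable {F : Type*} [Field F] [Fintype F]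

omit [Fintype F] in
/-- The data of the Steinberg group. -/
theorem theta_pgen : ∀ r < chevF4.nroots, ∀ t : F,
    St.toChev struct (subset_refl (chevF4.steinbergRels F)) (St.pgen (chevF4.steinbergRels F) r t) =
      struct.ok.xG r t := fun r hr t => St.toChev_pgen struct _ hr t

omit [Fintype F] in
/-- The Steinberg group of F4 over a field of two elements is the group itself. -/
theorem steinberg_equiv : ∃ θ : chevF4.SteinbergGroup F →* ↥(chevF4.group F), Function.Bijective θ := by
  have okS : ∃ W, St.okSt chevF4 F4.cert W = true := ⟨_, St.okSt_F4⟩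
  set P := St.presentedPres struct okNeg_F4 okS St.ab_subset _ (theta_pgen (F := F))
  have hgen := St.presentedPres_gen_top struct okNeg_F4 okS St.ab_subset _ (theta_pgen (F := F))
  have hran := St.range_eq_group P hgen
  refine ⟨(St.toChev struct (subset_refl (chevF4.steinbergRels F))).codRestrict (chevF4.group F)
    fun g => hran ▸ ⟨g, rfl⟩, ?_, ?_⟩
  · rw [← MonoidHom.ker_eq_bot_iff, MonoidHom.ker_codRestrict,
      show (St.toChev struct _).ker = Subgroup.center _ from St.ker_eq_center _ hran (St.center_group_bot (by simp)) fun g hg => (P.kernel hgen hg).2]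
    exact (Subgroup.card_eq_one).1 (Multi.card_center_eq_one (K := F) (by simp) struct okNeg_F4 okS St.okTorus_F4)
  · rintro ⟨g, hg⟩
    rw [← hran] at hg
    obtain ⟨u, hu⟩ := hg
    exact ⟨u, Subtype.ext hu⟩

/-- The images of the root elements satisfy the relations of the table. -/
theorem rels_of_hom (hF : Fintype.card F = 2) {Q : Type*} [Group Q] (f : chevF4.SteinbergGroup F →* Q) :
    Rels fun r => f (St.pgen (chevF4.steinbergRels F) r 1) := by
  set P := St.presentedPres struct okNeg_F4 ⟨_, St.okSt_F4⟩ St.ab_subset _ (theta_pgen (F := F))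
  set p : ℕ → chevF4.SteinbergGroup F := fun r => St.pgen (chevF4.steinbergRels F) r 1
  have h0 : ∀ r < 48, St.pgen (chevF4.steinbergRels F) r (0 : F) = 1 := by
    intro r hr
    have := P.hx r (nroots_eq ▸ hr) 0 0
    rw [add_zero] at this
    exact mul_eq_left.1 this
  have hp : ∀ r s, valid r s = true → val p (lhs r s) = val p (rhs r s) := by
    intro r s h
    simp only [valid, Bool.and_eq_true, Bool.or_eq_true, Bool.not_eq_true'] at h
    obtain ⟨⟨hr, hs⟩, h⟩ := h
    replace hr : r < 48 := Nat.le_of_ble_eq_true hr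
    replace hs : s < 48 := Nat.le_of_ble_eq_true hs
    rcases h with h | ⟨h, h'⟩
    · obtain rfl := Nat.eq_of_beq_eq_true h
      simp only [lhs, rhs, Nat.beq_refl, cond_true, val, List.map_cons, List.map_nil, List.prod_cons, List.prod_nil,
        mul_one, p]
      refine (P.hx r (nroots_eq ▸ hr) 1 1).trans ?_
      rw [one_add_one_eq_two, two_eq_zero hF]
      exact h0 r hr
    · replace h : r < s := Nat.le_of_ble_eq_true h
      have h3 : r + s ≠ 47 := fun e => by rw [e] at h'; exact absurd h' (by decide)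
      have e := P.hc r (nroots_eq ▸ hr) s (nroots_eq ▸ hs) (by omega) (by rw [neg_eq hr]; omega) (1 : F) 1
      have hw : ((chevF4.commWord F r s 1 1).map fun q => P.x q.1 q.2) =
          (chevF4.commWord F r s 1 1).map fun q => gmap p q.1 q.2 := by
        refine List.map_congr_left fun q hq => ?_
        simp only [ChevalleyDatum.commWord, List.mem_map] at hq
        obtain ⟨c, hc, rfl⟩ := hq
        have := Ok.commTerms_lt F4.okChain_ (nroots_eq ▸ hr) (nroots_eq ▸ hs) hc
        rw [nroots_eq] at this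
        show St.pgen _ _ _ = _
        unfold gmap
        split_ifs with e0
        · rw [e0]; exact h0 _ this
        · rw [(eq_zero_or_one hF _).resolve_left e0]
      rw [hw, ChevalleyDatum.commWord, gmap_commWord hF p 1 1 one_ne_zero one_ne_zero] at e
      have ht := List.all_eq_true.1 (List.all_eq_true.1 table_ok r (List.mem_range.2 hr)) s (List.mem_range.2 hs)
      simp only [beq_false h.ne, beq_false h3, Bool.false_or, Bool.and_eq_true, blt_true h, cond_true] at ht
      rw [show val p (((chevF4.commTerms r s).filter fun c => Nat.beq (c.2.1.natAbs % 2) 1).map Prod.fst) =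
        val p (oddT r s) from rfl, eqL_eq ht.2] at e
      simp only [lhs, rhs, beq_false h.ne, cond_false, val, List.map_cons, List.prod_cons, List.map_nil,
        List.prod_nil, mul_one]
      rw [show P.x = St.pgen (chevF4.steinbergRels F) from rfl] at e
      rw [show ((terms r s).map p).prod = val p (terms r s) from rfl, ← e]
      simp only [p]
      group
  intro r s h
  have := congrArg f (hp r s h)
  simpa only [val, map_list_prod, List.map_map, Function.comp_def, p] using this

open scoped commutatorElement in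
/-- Kernels of stem extensions have order at most two. -/
theorem kernel_bound (hF : Fintype.card F = 2) {Γ : Type*} [Group Γ] (σ : Γ →* ↥(chevF4.group F))
    (hσ : Cfsg.IsStemExtension σ) : IsCyclic σ.ker ∧ Nat.card σ.ker ∣ 2 := by
  obtain ⟨θ, hθ⟩ := steinberg_equiv (F := F)
  obtain ⟨hs, hz, hd⟩ := hσ
  obtain ⟨y, c, hc, hσc, hc2, hy, hgood⟩ := exists_lift σ hs hz (rels_of_hom hF θ)
  have hN : (Subgroup.zpowers c).Normal := ⟨fun n hn g => by
    rw [Subgroup.mem_center_iff.1 ((Subgroup.zpowers_le.2 hc) hn) g, mul_inv_cancel_right]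
    exact hn⟩
  have hq : Rels (QuotientGroup.mk' (Subgroup.zpowers c) ∘ y) := by
    intro r s h
    have := congrArg (QuotientGroup.mk' (Subgroup.zpowers c)) (hgood r s h)
    rw [map_mul, map_zpow, (QuotientGroup.eq_one_iff c).2 (Subgroup.mem_zpowers c) |> fun e =>
      show QuotientGroup.mk' (Subgroup.zpowers c) c = 1 from e, one_zpow, mul_one] at this
    simpa only [val, map_list_prod, List.map_map] using this
  obtain ⟨ρ, hρ⟩ := hom_steinberg hF hq
  let σ' : Γ ⧸ Subgroup.zpowers c →* ↥(chevF4.group F) :=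
    QuotientGroup.lift _ σ (Subgroup.zpowers_le.2 hσc)
  have hcomp : σ'.comp ρ = θ := PresentedGroup.ext fun p => by
    rw [← pgen_eq_of (chevF4.steinbergRels F) p]
    rcases eq_zero_or_one hF p.2 with e | e <;> rw [e]
    · have : St.pgen (chevF4.steinbergRels F) p.1.val (0 : F) = 1 := by
        have := (St.presentedPres struct okNeg_F4 ⟨_, St.okSt_F4⟩ St.ab_subset _ (theta_pgen (F := F))).hx
          p.1.val p.1.isLt 0 0
        rw [add_zero] at this
        exact mul_eq_left.1 this
      rw [this, map_one, map_one]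
    · rw [MonoidHom.comp_apply, hρ _ (nroots_eq ▸ p.1.isLt)]
      exact hy _
  have hker : σ.ker = Subgroup.zpowers c := by
    refine le_antisymm (fun z hzk => ?_) (Subgroup.zpowers_le.2 hσc)
    have hH : commutator Γ ≤ ρ.range.comap (QuotientGroup.mk' (Subgroup.zpowers c)) := by
      refine le_trans (Cfsg.Lib.Schur.commutator_eq_of_central (N := ρ.range.comap
        (QuotientGroup.mk' (Subgroup.zpowers c))) hz fun d => ?_) ?_
      · obtain ⟨g, hg⟩ := hθ.2 (σ d)
        obtain ⟨n, hn⟩ := QuotientGroup.mk'_surjective _ (ρ g)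
        refine ⟨n, ⟨g, hn.symm⟩, n⁻¹ * d, ?_, (mul_inv_cancel_left _ _).symm⟩
        have : σ n = σ d := by
          rw [← hg, ← hcomp, MonoidHom.comp_apply, ← hn]
          rfl
        rw [MonoidHom.mem_ker, map_mul, map_inv, this, inv_mul_cancel]
      · rw [Subgroup.commutator_le]
        intro a ha b hb
        rw [commutatorElement_def]
        exact mul_mem (mul_mem (mul_mem ha hb) (inv_mem ha)) (inv_mem hb)
    obtain ⟨g, hg⟩ := hH (hd hzk)
    have : θ g = 1 := by
      rw [← hcomp, MonoidHom.comp_apply, hg]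
      exact hzk
    rw [← map_one θ] at this
    rw [hθ.1 this, map_one] at hg
    exact (QuotientGroup.eq_one_iff z).1 hg.symm
  rw [hker, Nat.card_zpowers]
  exact ⟨inferInstance, orderOf_dvd_of_pow_eq_one hc2⟩

end Cfsg.Lib.Chev.Univ.FTwo
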