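import Cfsg.Agent.Chev.Univ.FTwo.TableData
import Cfsg.Agent.Chev.St.Present

/-! Rewriting words in lifts of root elements of F4 over two elements, following the errors of the relations. -/

set_option autoImplicit false

open Cfsg.Lie

namespace Cfsg.Lib.Chev.Univ.FTwo

/-- The code of a pair. -/
def code (r s : ℕ) : ℕ := ((rowsT.getD r 0) >>> (14 * s)) &&& 16383

/-- The roots occurring in the commutator of a pair. -/
def terms (r s : ℕ) : List ℕ :=
  let a := code r s &&& 63
  let b := (code r s >>> 6) &&& 63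
  bif Nat.beq a 0 then [] else bif Nat.beq b 0 then [a - 1] else [a - 1, b - 1]

/-- The exponent of the central element. -/
def expo (r s : ℕ) : ℤ :=
  bif Nat.beq r s then 0
  else bif Nat.beq (code r s >>> 12) 1 then 1
  else bif Nat.beq (code r s >>> 12) 2 then -1 else 0

/-- The left side of a relation. -/
def lhs (r s : ℕ) : List ℕ := bif Nat.beq r s then [r, r] else [s, r]

/-- The right side of a relation. -/
def rhs (r s : ℕ) : List ℕ := bif Nat.beq r s then [] else r :: s :: terms r s

/-- Equality of lists of numbers. -/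
def eqL : List ℕ → List ℕ → Bool
  | [], [] => true
  | a :: l, b :: l' => Nat.beq a b && eqL l l'
  | _, _ => false

theorem eqL_eq : ∀ {l l' : List ℕ}, eqL l l' = true → l = l'
  | [], [], _ => rfl
  | [], _ :: _, h => Bool.noConfusion h
  | _ :: _, [], h => Bool.noConfusion h
  | a :: l, b :: l', h => by
    rw [eqL, Bool.and_eq_true] at h
    rw [Nat.eq_of_beq_eq_true h.1, eqL_eq h.2]

/-- The pair stands for a relation. -/
def valid (r s : ℕ) : Bool :=
  Nat.blt r 48 && Nat.blt s 48 && (Nat.beq r s || (Nat.blt r s && !Nat.beq (r + s) 47))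

/-- Adding to one exponent. -/
def bump (id : ℕ) (n : ℤ) : List (ℕ × ℤ) → List (ℕ × ℤ)
  | [] => [(id, n)]
  | e :: l => bif Nat.beq e.1 id then (e.1, e.2 + n) :: l else e :: bump id n l

/-- The exponents of the relations not yet known, and of the central element, after one use of a relation. -/
def gain (K id : ℕ) (n : ℤ) (x : List (ℕ × ℤ) × ℤ) : List (ℕ × ℤ) × ℤ :=
  bif K.testBit id then (x.1, x.2 + n * expo (id / 48) (id % 48)) else (bump id n x.1, x.2)

/-- One move. -/
def move (K m : ℕ) (x : List ℕ × List (ℕ × ℤ) × ℤ) : Option (List ℕ × List (ℕ × ℤ) × ℤ) :=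
  let d := m &&& 1
  let r := (m >>> 1) &&& 63
  let s := (m >>> 7) &&& 63
  let p := m >>> 13
  let L := bif Nat.beq d 0 then lhs r s else rhs r s
  let R := bif Nat.beq d 0 then rhs r s else lhs r s
  let n : ℤ := bif Nat.beq d 0 then 1 else -1
  bif valid r s && eqL ((x.1.drop p).take L.length) L then
    some (x.1.take p ++ (R ++ (x.1.drop p).drop L.length), gain K (48 * r + s) n x.2)
  else none

/-- A list of moves. -/
def run (K : ℕ) : List ℕ → List ℕ × List (ℕ × ℤ) × ℤ → Option (List ℕ × List (ℕ × ℤ) × ℤ)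
  | [], x => some x
  | m :: ms, x =>
    match move K m x with
    | some y => run K ms y
    | none => none

/-- The exponent of a relation in a list. -/
def coeff (id : ℕ) : List (ℕ × ℤ) → ℤ
  | [] => 0
  | e :: l => (bif Nat.beq e.1 id then e.2 else 0) + coeff id l

/-- All other exponents vanish. -/
def onlyAt (id : ℕ) : List (ℕ × ℤ) → Bool
  | [] => true
  | e :: l => (Nat.beq e.1 id || decide (e.2 = 0)) && onlyAt id l

/-- A derivation of one relation. -/
def stepOK (K : ℕ) (e : ℕ × List ℕ × List ℕ) : Bool :=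
  valid (e.1 / 48) (e.1 % 48) && match run K e.2.2 (e.2.1, [], 0) with
  | some x => eqL x.1 e.2.1 && onlyAt e.1 x.2.1 && Nat.beq (coeff e.1 x.2.1).natAbs 1 &&
      decide (coeff e.1 x.2.1 * expo (e.1 / 48) (e.1 % 48) + x.2.2 = 0)
  | none => false

/-- The set with one more member. -/
def addBit (K v : ℕ) : ℕ := K ||| (1 <<< v)

/-- A list of derivations. -/
def runSteps : List (ℕ × List ℕ × List ℕ) → ℕ → Option ℕ
  | [], K => some K
  | e :: es, K => bif stepOK K e then runSteps es (addBit K e.1) else none

/-- Lists of derivations. -/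
def runAll : List (List (ℕ × List ℕ × List ℕ)) → ℕ → Option ℕ
  | [], K => some K
  | l :: ls, K =>
    match runSteps l K with
    | some K' => runAll ls K'
    | none => none

/-- The value of a word. -/
def val {E : Type*} [Monoid E] (y : ℕ → E) (w : List ℕ) : E := (w.map y).prod

variable {E : Type*} [Group E] (y : ℕ → E) (c : E)

/-- The relation holds with its exponent. -/
def Good (r s : ℕ) : Prop := val y (lhs r s) = val y (rhs r s) * c ^ expo r s

/-- The error of a relation. -/
def err (r s : ℕ) : E := (val y (rhs r s))⁻¹ * val y (lhs r s)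

theorem val_append (a b : List ℕ) : val y (a ++ b) = val y a * val y b := by
  simp [val]

theorem val_lhs (r s : ℕ) : val y (lhs r s) = val y (rhs r s) * err y r s := by
  rw [err, mul_inv_cancel_left]

/-- Every member of the set holds. -/
def Known (K : ℕ) : Prop := ∀ id, K.testBit id = true → Good y c (id / 48) (id % 48)

variable {y c}

theorem replace_val {w L R : List ℕ} {p : ℕ} {z : E} (hz : z ∈ Subgroup.center E)
    (hL : (w.drop p).take L.length = L) (h : val y L = val y R * z) :
    val y w = val y (w.take p ++ (R ++ (w.drop p).drop L.length)) * z := by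
  have hz' := Subgroup.mem_center_iff.1 hz
  have hw : val y w = val y (w.take p) * (val y L * val y ((w.drop p).drop L.length)) := by
    conv_lhs => rw [← List.take_append_drop p w, ← List.take_append_drop L.length (w.drop p), hL]
    simp only [val_append]
  rw [hw, h, val_append, val_append]
  simp only [mul_assoc]
  rw [hz']

variable (y) in
/-- The product of errors with exponents. -/
def prodErr : List (ℕ × ℤ) → E
  | [] => 1
  | e :: l => err y (e.1 / 48) (e.1 % 48) ^ e.2 * prodErr l

/-- Every listed relation has a central error. -/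
def Cent (y : ℕ → E) : List (ℕ × ℤ) → Prop
  | [] => True
  | e :: l => err y (e.1 / 48) (e.1 % 48) ∈ Subgroup.center E ∧ Cent y l

theorem prodErr_mem : ∀ {l : List (ℕ × ℤ)}, Cent y l → prodErr y l ∈ Subgroup.center E
  | [], _ => one_mem _
  | _ :: _, h => mul_mem (zpow_mem h.1 _) (prodErr_mem h.2)

theorem prodErr_bump {id : ℕ} {n : ℤ} (hid : err y (id / 48) (id % 48) ∈ Subgroup.center E) :
    ∀ {l : List (ℕ × ℤ)}, Cent y l →
      Cent y (bump id n l) ∧ prodErr y (bump id n l) = err y (id / 48) (id % 48) ^ n * prodErr y l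
  | [], _ => ⟨⟨hid, trivial⟩, rfl⟩
  | e :: l, h => by
    rw [bump]
    cases he : Nat.beq e.1 id <;> simp only [cond_true, cond_false]
    · obtain ⟨h1, h2⟩ := prodErr_bump hid h.2
      refine ⟨⟨h.1, h1⟩, ?_⟩
      show _ * prodErr y (bump id n l) = _ * (_ * prodErr y l)
      rw [h2, ← mul_assoc, ← mul_assoc, (Subgroup.mem_center_iff.1 (zpow_mem hid n) _)]
    · refine ⟨⟨h.1, h.2⟩, ?_⟩
      show _ ^ (e.2 + n) * prodErr y l = _ ^ n * (_ ^ e.2 * prodErr y l)
      rw [← Nat.eq_of_beq_eq_true he, add_comm, zpow_add, mul_assoc]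

theorem prodErr_only {id : ℕ} : ∀ {l : List (ℕ × ℤ)}, onlyAt id l = true →
    prodErr y l = err y (id / 48) (id % 48) ^ coeff id l
  | [], _ => (zpow_zero _).symm
  | e :: l, h => by
    simp only [onlyAt, Bool.and_eq_true, Bool.or_eq_true, decide_eq_true_eq] at h
    show _ * prodErr y l = _
    rw [prodErr_only h.2, coeff]
    cases he : Nat.beq e.1 id <;> simp only [cond_true, cond_false]
    · rw [he] at h
      rw [h.1.resolve_left Bool.false_ne_true, zpow_zero, one_mul, zero_add]
    · rw [Nat.eq_of_beq_eq_true he, zpow_add]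

theorem move_sound {K m : ℕ} {x x' : List ℕ × List (ℕ × ℤ) × ℤ} (hK : Known y c K) (hc : c ∈ Subgroup.center E)
    (hv : ∀ r s, valid r s = true → err y r s ∈ Subgroup.center E) (hx : Cent y x.2.1)
    (h : move K m x = some x') :
    Cent y x'.2.1 ∧ val y x.1 * (prodErr y x.2.1 * c ^ x.2.2) = val y x'.1 * (prodErr y x'.2.1 * c ^ x'.2.2) := by
  set r := (m >>> 1) &&& 63 with hr
  set s := (m >>> 7) &&& 63 with hs
  set p := m >>> 13 with hp
  simp only [move, ← hr, ← hs, ← hp] at h
  revert h
  generalize hcnd : (valid r s && eqL _ _) = b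
  cases b
  · intro h; simp at h
  intro h
  simp only [cond_true, Option.some.injEq] at h
  subst h
  rw [Bool.and_eq_true] at hcnd
  have he := eqL_eq hcnd.2
  have hrs := hv r s hcnd.1
  have h1 : (48 * r + s) / 48 = r ∧ (48 * r + s) % 48 = s := by
    have := hcnd.1
    simp only [valid, Bool.and_eq_true, Nat.blt, Nat.ble_eq] at this
    omega
  obtain ⟨n, hn, hnL⟩ : ∃ n : ℤ, (bif Nat.beq (m &&& 1) 0 then 1 else -1) = n ∧
      val y (bif Nat.beq (m &&& 1) 0 then lhs r s else rhs r s) =
        val y (bif Nat.beq (m &&& 1) 0 then rhs r s else lhs r s) * err y r s ^ n := by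
    refine ⟨_, rfl, ?_⟩
    cases Nat.beq (m &&& 1) 0 <;> simp only [cond_true, cond_false]
    · rw [val_lhs, zpow_neg_one, mul_inv_cancel_right]
    · rw [zpow_one, val_lhs]
  rw [hn, gain]
  cases hb : K.testBit (48 * r + s) <;> simp only [cond_true, cond_false]
  · obtain ⟨hl, he2⟩ := prodErr_bump (id := 48 * r + s) (n := n) (by rw [h1.1, h1.2]; exact hrs) hx
    refine ⟨hl, ?_⟩
    rw [he2, h1.1, h1.2, replace_val (zpow_mem hrs n) he hnL]
    simp only [mul_assoc]
  · refine ⟨hx, ?_⟩
    have hg := hK _ hb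
    rw [h1.1, h1.2] at hg ⊢
    have hu : err y r s = c ^ expo r s := by rw [err, show val y (lhs r s) = _ from hg, inv_mul_cancel_left]
    rw [hu, ← zpow_mul, mul_comm (expo r s)] at hnL
    rw [replace_val (zpow_mem hc (n * expo r s)) he hnL, mul_assoc]
    refine congrArg _ ?_
    rw [← mul_assoc, ← Subgroup.mem_center_iff.1 (zpow_mem hc (n * expo r s)) (prodErr y x.2.1), mul_assoc,
      ← zpow_add, add_comm (n * expo r s)]

theorem run_sound {K : ℕ} (hK : Known y c K) (hc : c ∈ Subgroup.center E)
    (hv : ∀ r s, valid r s = true → err y r s ∈ Subgroup.center E) :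
    ∀ {ms : List ℕ} {x x' : List ℕ × List (ℕ × ℤ) × ℤ}, Cent y x.2.1 → run K ms x = some x' →
      val y x.1 * (prodErr y x.2.1 * c ^ x.2.2) = val y x'.1 * (prodErr y x'.2.1 * c ^ x'.2.2)
  | [], _, _, _, h => by rw [run, Option.some.injEq] at h; subst h; rfl
  | m :: ms, x, x', hx, h => by
    rw [run] at h
    cases hm : move K m x with
    | none => rw [hm] at h; simp at h
    | some z =>
      rw [hm] at h
      obtain ⟨hz, e⟩ := move_sound hK hc hv hx hm
      exact e.trans (run_sound hK hc hv hz h)

theorem loop_sound {K : ℕ} {ms w : List ℕ} {x : List ℕ × List (ℕ × ℤ) × ℤ} (hK : Known y c K)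
    (hc : c ∈ Subgroup.center E) (hv : ∀ r s, valid r s = true → err y r s ∈ Subgroup.center E)
    (h : run K ms (w, [], 0) = some x) (hw : eqL x.1 w = true) : prodErr y x.2.1 * c ^ x.2.2 = 1 := by
  have e := run_sound hK hc hv (x := (w, [], 0)) trivial h
  simp only [prodErr, zpow_zero, mul_one, eqL_eq hw] at e
  exact mul_eq_left.1 e.symm

theorem step_sound {K : ℕ} {e : ℕ × List ℕ × List ℕ} (hK : Known y c K) (hc : c ∈ Subgroup.center E)
    (hv : ∀ r s, valid r s = true → err y r s ∈ Subgroup.center E) (h : stepOK K e = true) :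
    Good y c (e.1 / 48) (e.1 % 48) := by
  rw [stepOK, Bool.and_eq_true] at h
  replace h := h.2
  cases hr : run K e.2.2 (e.2.1, [], 0) with
  | none => rw [hr] at h; simp at h
  | some x =>
    rw [hr] at h
    simp only [Bool.and_eq_true, decide_eq_true_eq] at h
    obtain ⟨⟨⟨hw, ho⟩, hn⟩, hk⟩ := h
    have e2 := loop_sound hK hc hv hr hw
    rw [prodErr_only ho] at e2
    rw [Good, val_lhs]
    refine congrArg _ ?_
    rw [mul_eq_one_iff_eq_inv, ← zpow_neg] at e2
    rcases Int.natAbs_eq (coeff e.1 x.2.1) with ea | ea <;> rw [Nat.eq_of_beq_eq_true hn] at ea <;>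
      push_cast at ea <;> rw [ea] at hk e2
    · rw [zpow_one] at e2
      rw [e2, show -x.2.2 = expo (e.1 / 48) (e.1 % 48) by omega]
    · rw [zpow_neg_one, inv_eq_iff_eq_inv, ← zpow_neg] at e2
      rw [e2, show - -x.2.2 = expo (e.1 / 48) (e.1 % 48) by omega]

theorem known_add {K v : ℕ} (hK : Known y c K) (hv : Good y c (v / 48) (v % 48)) : Known y c (addBit K v) := by
  intro id hid
  rw [addBit, Nat.testBit_or, Nat.one_shiftLeft, Nat.testBit_two_pow, Bool.or_eq_true, decide_eq_true_eq] at hid
  rcases hid with hid | rfl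
  · exact hK id hid
  · exact hv

theorem runSteps_sound (hc : c ∈ Subgroup.center E) (hv : ∀ r s, valid r s = true → err y r s ∈ Subgroup.center E) :
    ∀ {es : List (ℕ × List ℕ × List ℕ)} {K K' : ℕ}, Known y c K → runSteps es K = some K' → Known y c K'
  | [], _, _, hK, h => by rw [runSteps, Option.some.injEq] at h; exact h ▸ hK
  | e :: es, K, K', hK, h => by
    rw [runSteps] at h
    cases hs : stepOK K e <;> rw [hs] at h <;> simp only [cond_true, cond_false] at h
    · simp at h
    · exact runSteps_sound hc hv (known_add hK (step_sound hK hc hv hs)) h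

theorem runAll_sound (hc : c ∈ Subgroup.center E) (hv : ∀ r s, valid r s = true → err y r s ∈ Subgroup.center E) :
    ∀ {ls : List (List (ℕ × List ℕ × List ℕ))} {K K' : ℕ}, Known y c K → runAll ls K = some K' → Known y c K'
  | [], _, _, hK, h => by rw [runAll, Option.some.injEq] at h; exact h ▸ hK
  | l :: ls, K, K', hK, h => by
    rw [runAll] at h
    cases hs : runSteps l K with
    | none => rw [hs] at h; simp at h
    | some K'' => rw [hs] at h; exact runAll_sound hc hv (runSteps_sound hc hv hK hs) h

end Cfsg.Lib.Chev.Univ.FTwo
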