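import Cfsg.Agent.Chev.Univ.FTwo.Cert
import Cfsg.Agent.Chev.Univ.FTwo.StepsData

/-! The derivations give every relation of the lifts, and the central element has order two. -/

set_option autoImplicit false
set_option Elab.async false
set_option maxRecDepth 20000
set_option maxHeartbeats 0

open Cfsg.Lie

namespace Cfsg.Lib.Chev.Univ.FTwo

/-- The relations known at the start. -/
def seed : ℕ := gauge.foldl (fun K e => addBit K (48 * e.1 + e.2)) (addBit 0 (48 * cPair.1 + cPair.2))

/-- The relations derived. -/
def derived : ℕ := (runAll allSteps seed).getD 0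

/-- Every relation is derived. -/
def allValid (K : ℕ) : Bool :=
  (List.range 48).all fun r => (List.range 48).all fun s => !valid r s || K.testBit (48 * r + s)

/-- The last derivation. -/
def finOK (K : ℕ) : Bool :=
  match run K finStep.2 (finStep.1, [], 0) with
  | some x => eqL x.1 finStep.1 && x.2.1.all (fun e => decide (e.2 = 0)) && Nat.beq x.2.2.natAbs 2
  | none => false

theorem derived_ok : (runAll allSteps seed).isSome = true ∧ allValid derived = true ∧ finOK derived = true := by
  decide +kernel

/-- The term of the commutator formula for exponents one over two elements. -/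
def oddT (r s : ℕ) : List ℕ :=
  ((chevF4.commTerms r s).filter fun q => Nat.beq (q.2.1.natAbs % 2) 1).map Prod.fst

/-- The table is that of the datum. -/
def tabOK (r : ℕ) : Bool :=
  (List.range 48).all fun s => Nat.beq r s || Nat.beq (r + s) 47 ||
    ((chevF4.commTerms r s).all (fun q => Nat.blt 0 q.2.2.1 && Nat.blt 0 q.2.2.2) &&
      bif Nat.blt r s then eqL (oddT r s) (terms r s)
      else eqL (oddT r s) (terms s r).reverse ||
        (eqL (oddT r s) (terms s r) &&
          match terms s r with
          | [a, b] => !Nat.beq a b && !Nat.beq (a + b) 47 && eqL (terms (min a b) (max a b)) []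
          | _ => false))

theorem table_ok : (List.range 48).all tabOK = true := by decide +kernel

theorem gauge_ok : gauge.length = 48 ∧ ((List.range 48).all fun r =>
    let e := gauge.getD r (0, 0)
    Nat.blt e.1 e.2 && Nat.blt e.2 48 && !Nat.beq (e.1 + e.2) 47 && eqL (terms e.1 e.2) [r] &&
      decide (expo e.1 e.2 = 0)) = true ∧
    Nat.blt cPair.1 cPair.2 = true ∧ Nat.blt cPair.2 48 = true ∧ Nat.beq (cPair.1 + cPair.2) 47 = false ∧
    expo cPair.1 cPair.2 = 1 := by
  decide +kernel

end Cfsg.Lib.Chev.Univ.FTwo
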