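import Cfsg.Agent.Chev.Univ.FTwo.MatData
import Cfsg.Agent.Chev.Univ.FTwo.Cert

/-! The matrices satisfy the relations of the lifts, the central element acting as minus one. -/

set_option autoImplicit false
set_option Elab.async false
set_option maxRecDepth 20000
set_option maxHeartbeats 0

namespace Cfsg.Lib.Chev.Univ.FTwo

/-- The relations with one smaller root. -/
def relRow (r : ℕ) : Bool :=
  (List.range 48).all fun s => !valid r s ||
    Nat.beq (Pack.evalW amats (lhs r s)) (Pack.evalW amats (rhs r s ++ bif decide (expo r s = 0) then [] else [48]))

theorem rows_ok : amats.length = 49 ∧ amats.all Pack.rowsOK = true := by decide +kernel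

theorem rels_ok : (List.range 48).all relRow = true := by decide +kernel

theorem minus_one_ok : (List.range 52).all (fun i =>
    Nat.beq ((amats.getD 48 []).getD i 0) (2 * 256 ^ i)) = true ∧
    Nat.beq (Pack.evalW amats [0]) Pack.one = false ∧
    Nat.beq (Pack.evalW amats [0]) (Pack.evalW amats [48]) = false := by
  decide +kernel

end Cfsg.Lib.Chev.Univ.FTwo
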