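import Cfsg.Agent.Chev.Univ.FTwo.Bound
import Cfsg.Agent.Chev.Univ.FTwo.MatChecks
import Cfsg.Agent.Chev.Perfect
import Cfsg.Agent.Chev.Simple
import Cfsg.Agent.Chev.Types
import Cfsg.Agent.Schur.Criteria

/-! The double cover of F4 over two elements as a group of matrices, and its Schur multiplier. -/

set_option autoImplicit false
set_option maxRecDepth 20000

open Cfsg.Lie
open scoped commutatorElement

namespace Cfsg.Lib.Chev.Univ.FTwo

/-- Fifty-two dimensional matrices over three elements. -/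
abbrev GLM : Type := GL (Fin 52) (ZMod 3)

/-- The matrix of a letter. -/
def am (r : ℕ) : Matrix (Fin 52) (Fin 52) (ZMod 3) := Pack.rowMat (amats.getD r [])

theorem rowsOK_getD {r : ℕ} (h : r < 49) : Pack.rowsOK (amats.getD r []) = true := by
  obtain ⟨hlen, hall⟩ := rows_ok
  rw [List.getD_eq_getElem amats [] (hlen ▸ h)]
  exact List.all_eq_true.1 hall _ (List.getElem_mem _)

theorem mat_eval {w : List ℕ} (h : ∀ r ∈ w, r < 49) : Pack.mat (Pack.evalW amats w) = val am w :=
  Pack.mat_evalW fun r hr => rowsOK_getD (h r hr)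

theorem terms_lt {r s a : ℕ} (h : r < s) (hs : s < 48) (h3 : r + s ≠ 47) (ha : a ∈ terms r s) : a < 48 := by
  have hr : r < 48 := by omega
  have ht := List.all_eq_true.1 (List.all_eq_true.1 table_ok r (List.mem_range.2 hr)) s (List.mem_range.2 hs)
  simp only [beq_false h.ne, beq_false h3, Bool.false_or, Bool.and_eq_true, blt_true h, cond_true] at ht
  exact oddT_lt hr hs (by rw [eqL_eq ht.2]; exact ha)

theorem valid_cases {r s : ℕ} (h : valid r s = true) : r < 48 ∧ s < 48 ∧ (r = s ∨ r < s ∧ r + s ≠ 47) := by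
  simp only [valid, Bool.and_eq_true, Bool.or_eq_true, Bool.not_eq_true'] at h
  obtain ⟨⟨hr, hs⟩, h⟩ := h
  refine ⟨Nat.le_of_ble_eq_true hr, Nat.le_of_ble_eq_true hs, h.imp Nat.eq_of_beq_eq_true fun h => ?_⟩
  exact ⟨Nat.le_of_ble_eq_true h.1, fun e => by rw [e] at h; exact absurd h.2 (by decide)⟩

theorem word_lt {r s : ℕ} (h : valid r s = true) : (∀ a ∈ lhs r s, a < 48) ∧ ∀ a ∈ rhs r s, a < 48 := by
  obtain ⟨hr, hs, h'⟩ := valid_cases h
  rcases h' with rfl | ⟨h1, h3⟩
  · simp [lhs, rhs, Nat.beq_refl, hr]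
  · simp only [lhs, rhs, beq_false h1.ne, cond_false, List.mem_cons, List.not_mem_nil, or_false]
    exact ⟨fun a ha => by omega, fun a ha => by
      rcases ha with rfl | rfl | ha
      exacts [hr, hs, terms_lt h1 hs h3 ha]⟩

theorem minus_row : ∀ i < 52, (amats.getD 48 []).getD i 0 = 2 * 256 ^ i := fun i hi =>
  Nat.eq_of_beq_eq_true (List.all_eq_true.1 minus_one_ok.1 i (List.mem_range.2 hi))

theorem am_minus : am 48 = -1 := by
  ext i j
  show (Pack.fld j.val ((amats.getD 48 []).getD i.val 0) : ZMod 3) = _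
  rw [minus_row _ i.isLt, Matrix.neg_apply, Matrix.one_apply]
  have key : ∀ a b : ℕ, Pack.fld b (2 * 256 ^ a) = if a = b then 2 else 0 := by
    intro a b
    rw [Pack.fld]
    rcases lt_trichotomy a b with h | rfl | h
    · rw [if_neg h.ne, Nat.div_eq_of_lt]
      calc 2 * 256 ^ a < 256 * 256 ^ a := Nat.mul_lt_mul_of_pos_right (by omega) (Nat.pow_pos (by norm_num))
        _ = 256 ^ (a + 1) := by rw [pow_succ, mul_comm]
        _ ≤ 256 ^ b := Nat.pow_le_pow_right (by omega) h
    · rw [if_pos rfl, Nat.mul_div_cancel _ (Nat.pow_pos (by norm_num))]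
    · obtain ⟨d, rfl⟩ : ∃ d, a = b + (d + 1) := ⟨a - b - 1, by omega⟩
      rw [if_neg h.ne', pow_add, mul_left_comm, Nat.mul_div_cancel_left _ (Nat.pow_pos (by norm_num)), pow_succ,
        ← mul_assoc, Nat.mul_mod_left]
  rw [key]
  by_cases h : i = j
  · subst h
    rw [if_pos rfl, if_pos rfl]
    rfl
  · rw [if_neg h, if_neg fun e => h (Fin.ext e)]
    simp

attribute [local irreducible] am amats rowsT

theorem am_rel {r s : ℕ} (h : valid r s = true) :
    val am (lhs r s) = val am (rhs r s) * (if expo r s = 0 then 1 else -1) := by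
  obtain ⟨hl, hr⟩ := word_lt h
  obtain ⟨hr', hs', -⟩ := valid_cases h
  have hc := List.all_eq_true.1 (List.all_eq_true.1 rels_ok r (List.mem_range.2 hr')) s (List.mem_range.2 hs')
  rw [h, Bool.not_true, Bool.false_or] at hc
  have e := congrArg Pack.mat (Nat.eq_of_beq_eq_true hc)
  rw [mat_eval fun a ha => by have := hl a ha; omega, mat_eval (w := _ ++ _) fun a ha => ?_, val, val, List.map_append, List.prod_append] at e
  · rw [val, val, e]
    by_cases he : expo r s = 0
    · simp [he]
    · simp [he, am_minus]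
  · rcases List.mem_append.1 ha with ha | ha
    · have := hr a ha; omega
    · by_cases he : expo r s = 0 <;> simp [he] at ha
      omega

theorem am_sq {r : ℕ} (h : r < 48) : am r * am r = 1 := by
  simpa [val, lhs, rhs, expo, Nat.beq_refl] using am_rel (valid_self h)

/-- The generators. -/
noncomputable def au (r : ℕ) : GLM := if h : r < 48 then ⟨am r, am r, am_sq h, am_sq h⟩ else 1

theorem au_val {r : ℕ} (h : r < 48) : (au r : Matrix (Fin 52) (Fin 52) (ZMod 3)) = am r := by
  rw [au, dif_pos h]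

attribute [local irreducible] au

theorem val_au {w : List ℕ} (h : ∀ a ∈ w, a < 48) :
    ((val au w : GLM) : Matrix (Fin 52) (Fin 52) (ZMod 3)) = val am w := by
  induction w with
  | nil => rfl
  | cons a w ih =>
    simp only [val, List.map_cons, List.prod_cons, Units.val_mul] at ih ⊢
    rw [ih fun b hb => h b (List.mem_cons_of_mem _ hb), au_val (h a List.mem_cons_self)]

theorem expo_cases (r s : ℕ) : expo r s = 0 ∨ expo r s = 1 ∨ expo r s = -1 := by
  unfold expo
  cases Nat.beq r s <;> cases Nat.beq (code r s >>> 12) 1 <;> cases Nat.beq (code r s >>> 12) 2 <;> simp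

theorem au_good {r s : ℕ} (h : valid r s = true) : Good au (-1 : GLM) r s := by
  obtain ⟨hl, hr⟩ := word_lt h
  refine Units.ext ?_
  rw [Units.val_mul, val_au hl, val_au hr, am_rel h]
  refine congrArg _ ?_
  rcases expo_cases r s with e | e | e <;> rw [e]
  · simp
  · rw [if_neg (by decide), zpow_one, Units.val_neg, Units.val_one]
  · rw [if_neg (by decide), zpow_neg_one, inv_neg_one, Units.val_neg, Units.val_one]

/-- The group generated by the lifts. -/
noncomputable def cover : Subgroup GLM := Subgroup.closure (Set.range au)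

/-- A generator in the cover. -/
noncomputable def yc (r : ℕ) : ↥cover := ⟨au r, Subgroup.subset_closure ⟨r, rfl⟩⟩

/-- The central element. -/
noncomputable def cc : ↥cover := err yc cPair.1 cPair.2

theorem val_yc (w : List ℕ) : ((val yc w : ↥cover) : GLM) = val au w := by
  rw [val, val, SubmonoidClass.coe_list_prod, List.map_map]
  rfl

attribute [local irreducible] cPair gauge

theorem cPair_valid : valid cPair.1 cPair.2 = true :=
  valid_lt (Nat.le_of_ble_eq_true gauge_ok.2.2.1) (Nat.le_of_ble_eq_true gauge_ok.2.2.2.1)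
    fun e => by have := gauge_ok.2.2.2.2.1; rw [e] at this; exact absurd this (by decide)

theorem cc_val : (cc : GLM) = -1 := by
  have h : (((val yc (rhs cPair.1 cPair.2) : ↥cover) : GLM))⁻¹ * ((val yc (lhs cPair.1 cPair.2) : ↥cover) : GLM) = -1 := by
    rw [val_yc, val_yc, show val au (lhs cPair.1 cPair.2) = _ from au_good cPair_valid, gauge_ok.2.2.2.2.2,
      zpow_one, inv_mul_cancel_left]
  exact h

theorem yc_good {r s : ℕ} (h : valid r s = true) : Good yc cc r s := by
  refine Subtype.ext ?_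
  rw [Subgroup.coe_mul, Subgroup.coe_zpow, cc_val, val_yc, val_yc]
  exact au_good h

attribute [local irreducible] cc

theorem cc_center : cc ∈ Subgroup.center ↥cover := Subgroup.mem_center_iff.2 fun g => Subtype.ext (by
  rw [Subgroup.coe_mul, Subgroup.coe_mul, cc_val]
  refine Units.ext ?_
  simp)

theorem cc_sq : cc ^ 2 = 1 := Subtype.ext (by
  rw [Subgroup.coe_pow, cc_val, Subgroup.coe_one, neg_one_sq])

theorem cc_ne : cc ≠ 1 := by
  intro h
  have h2 : (-1 : GLM) = 1 := cc_val.symm.trans (congrArg Subtype.val h)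
  have h3 : ((-1 : GLM) : Matrix (Fin 52) (Fin 52) (ZMod 3)) 0 0 =
      ((1 : GLM) : Matrix (Fin 52) (Fin 52) (ZMod 3)) 0 0 := by rw [h2]
  rw [Units.val_neg, Units.val_one, Matrix.neg_apply, Matrix.one_apply_eq] at h3
  exact absurd h3 (by decide)

theorem eval_inj {a b : List ℕ} (ha : a ≠ []) (hb : b ≠ [])
    (h : Pack.mat (Pack.evalW amats a) = Pack.mat (Pack.evalW amats b)) :
    Pack.evalW amats a = Pack.evalW amats b := by
  have key : ∀ w : List ℕ, w ≠ [] → ∃ x, Pack.evalW amats w = Pack.norm x := by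
    intro w hw
    obtain ⟨l, x, rfl⟩ : ∃ l x, w = l ++ [x] := ⟨_, _, (List.dropLast_append_getLast hw).symm⟩
    exact ⟨Pack.mulGo (amats.getD x []) (Pack.evalW amats l), by simp [Pack.evalW, Pack.mulN]⟩
  obtain ⟨x, hx⟩ := key a ha
  obtain ⟨z, hz⟩ := key b hb
  rw [hx, hz] at h ⊢
  rw [Pack.eq_enc (Pack.norm_lt x), Pack.eq_enc (Pack.norm_lt z)]
  refine Pack.enc_congr fun k hk => ?_
  rw [Pack.NF_eq] at hk
  have h' := congrFun (congrFun h ⟨k / 52, by omega⟩) ⟨k % 52, Nat.mod_lt _ (by omega)⟩
  simp only [Pack.mat, Matrix.of_apply, Nat.div_add_mod] at h'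
  rw [ZMod.natCast_eq_natCast_iff'] at h'
  have := Pack.fld_norm_le k x
  have := Pack.fld_norm_le k z
  omega

theorem am_zero_ne : am 0 ≠ 1 ∧ am 0 ≠ -1 := by
  have h0 : Pack.mat (Pack.evalW amats [0]) = am 0 := by rw [mat_eval (by simp)]; simp [val]
  constructor
  · intro h
    have h1 : Pack.mat (Pack.evalW amats [48, 48]) = 1 := by rw [mat_eval (by simp)]; simp [val, am_minus]
    have e := eval_inj (a := [0]) (b := [48, 48]) (by simp) (by simp) (by rw [h0, h, h1])
    have h2 : Pack.evalW amats [48, 48] = Pack.one := by decide +kernel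
    have h3 := minus_one_ok.2.1
    rw [e, h2, Nat.beq_refl] at h3
    exact Bool.noConfusion h3
  · intro h
    have h1 : Pack.mat (Pack.evalW amats [48]) = -1 := by rw [mat_eval (by simp)]; simp [val, am_minus]
    have e := eval_inj (a := [0]) (b := [48]) (by simp) (by simp) (by rw [h0, h, h1])
    have h2 := minus_one_ok.2.2
    rw [e, Nat.beq_refl] at h2
    exact Bool.noConfusion h2

theorem yc_comm (r : ℕ) : yc r ∈ commutator ↥cover := by
  by_cases hr : r < 48
  · have hg := List.all_eq_true.1 gauge_ok.2.1 r (List.mem_range.2 hr)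
    simp only [Bool.and_eq_true, Bool.not_eq_true', decide_eq_true_eq] at hg
    obtain ⟨⟨⟨⟨h1, h2⟩, h3⟩, h4⟩, h5⟩ := hg
    replace h1 := Nat.le_of_ble_eq_true h1
    replace h2 := Nat.le_of_ble_eq_true h2
    have h3' : (gauge.getD r (0, 0)).1 + (gauge.getD r (0, 0)).2 ≠ 47 :=
      fun e => by rw [e] at h3; exact absurd h3 (by decide)
    have e := yc_good (valid_lt h1 h2 h3')
    rw [Good, h5, zpow_zero, mul_one] at e
    simp only [lhs, rhs, beq_false (Nat.ne_of_lt h1), cond_false, eqL_eq h4, val, List.map_cons, List.map_nil,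
      List.prod_cons, List.prod_nil, mul_one] at e
    rw [show yc r = ⁅(yc (gauge.getD r (0, 0)).2)⁻¹, (yc (gauge.getD r (0, 0)).1)⁻¹⁆ by
      rw [commutatorElement_def, inv_inv, inv_inv, mul_assoc _ (yc _) (yc _), e]; group]
    exact Subgroup.commutator_mem_commutator (Subgroup.mem_top _) (Subgroup.mem_top _)
  · rw [show yc r = 1 from Subtype.ext (by show au r = 1; rw [au, dif_neg hr])]
    exact one_mem _

theorem cc_comm : cc ∈ commutator ↥cover := by
  have h : ∀ w : List ℕ, val yc w ∈ commutator ↥cover := fun w =>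
    Subgroup.list_prod_mem _ fun x hx => by
      obtain ⟨r, -, rfl⟩ := List.mem_map.1 hx
      exact yc_comm r
  rw [cc, err]
  exact mul_mem (inv_mem (h _)) (h _)

universe u

variable {F : Type u} [Field F] [Fintype F]

/-- The cover maps onto the group with kernel of order two. -/
theorem exists_cover (hF : Fintype.card F = 2) :
    ∃ σ : ↥cover →* ↥(chevF4.group F), Cfsg.IsStemExtension σ ∧ σ.ker = Subgroup.zpowers cc := by
  obtain ⟨θ, hθ⟩ := steinberg_equiv (F := F)
  have hN : (Subgroup.zpowers cc).Normal := ⟨fun n hn g => by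
    rw [Subgroup.mem_center_iff.1 ((Subgroup.zpowers_le.2 cc_center) hn) g, mul_inv_cancel_right]
    exact hn⟩
  have hq : Rels (QuotientGroup.mk' (Subgroup.zpowers cc) ∘ yc) := by
    intro r s h
    have := congrArg (QuotientGroup.mk' (Subgroup.zpowers cc)) (yc_good h)
    rw [map_mul, map_zpow, show QuotientGroup.mk' (Subgroup.zpowers cc) cc = 1 from
      (QuotientGroup.eq_one_iff cc).2 (Subgroup.mem_zpowers cc), one_zpow, mul_one] at this
    simpa only [val, map_list_prod, List.map_map] using this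
  obtain ⟨ρ, hρ⟩ := hom_steinberg hF hq
  let f : ↥(chevF4.group F) →* ↥cover ⧸ Subgroup.zpowers cc := ρ.comp (MulEquiv.ofBijective θ hθ).symm.toMonoidHom
  have hsurj : Function.Surjective f := by
    intro x
    obtain ⟨⟨g, hg⟩, rfl⟩ := QuotientGroup.mk'_surjective _ x
    have : g ∈ (f.range.comap (QuotientGroup.mk' (Subgroup.zpowers cc))).map cover.subtype := by
      refine (Subgroup.closure_le _).2 ?_ hg
      rintro _ ⟨r, rfl⟩
      refine ⟨yc r, ?_, rfl⟩
      by_cases hr : r < 48
      · refine ⟨θ (St.pgen (chevF4.steinbergRels F) r 1), ?_⟩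
        show ρ ((MulEquiv.ofBijective θ hθ).symm (θ _)) = _
        rw [show (MulEquiv.ofBijective θ hθ).symm (θ (St.pgen (chevF4.steinbergRels F) r 1)) =
          St.pgen (chevF4.steinbergRels F) r 1 from (MulEquiv.ofBijective θ hθ).symm_apply_apply _]
        exact hρ r hr
      · rw [show yc r = 1 from Subtype.ext (by show au r = 1; rw [au, dif_neg hr])]
        exact one_mem _
    obtain ⟨y, hy, e⟩ := this
    obtain rfl : y = ⟨g, hg⟩ := Subtype.ext e
    exact hy
  have hperf : commutator ↥(chevF4.group F) = ⊤ :=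
    F4.struct.commutator_eq_top F4.perfect fun h => absurd h Bool.false_ne_true
  have := (F4.struct.simple (F := F) okNeg_F4 F4.irr opp_F4 hperf (by decide +kernel)).1
  have hinj : Function.Injective f := by
    rw [← MonoidHom.ker_eq_bot_iff]
    refine ((MonoidHom.normal_ker f).eq_bot_or_eq_top).resolve_right fun htop => ?_
    have h1 : QuotientGroup.mk' (Subgroup.zpowers cc) (yc 0) = 1 := by
      obtain ⟨x, hx⟩ := hsurj (QuotientGroup.mk' (Subgroup.zpowers cc) (yc 0))
      rw [← hx, ← MonoidHom.mem_ker, htop]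
      exact Subgroup.mem_top _
    obtain ⟨k, hk⟩ := Subgroup.mem_zpowers_iff.1 ((QuotientGroup.eq_one_iff _).1 h1)
    have h2 : ((-1 : GLM) ^ k) = au 0 := by
      rw [← cc_val, ← Subgroup.coe_zpow, hk]
      rfl
    obtain ⟨n1, n2⟩ := am_zero_ne
    rw [← au_val (show 0 < 48 by omega), ← h2] at n1 n2
    rcases Int.even_or_odd k with e | e
    · rw [e.neg_one_zpow] at n1
      exact n1 rfl
    · rw [e.neg_one_zpow] at n2
      exact n2 (by simp)
  let σ : ↥cover →* ↥(chevF4.group F) :=
    (MulEquiv.ofBijective f ⟨hinj, hsurj⟩).symm.toMonoidHom.comp (QuotientGroup.mk' (Subgroup.zpowers cc))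
  have hker : σ.ker = Subgroup.zpowers cc := by
    show (MonoidHom.comp _ (QuotientGroup.mk' (Subgroup.zpowers cc))).ker = _
    exact (MonoidHom.ker_mulEquiv_comp _ (MulEquiv.ofBijective f ⟨hinj, hsurj⟩).symm).trans (QuotientGroup.ker_mk' _)
  refine ⟨σ, ⟨(MulEquiv.ofBijective f ⟨hinj, hsurj⟩).symm.surjective.comp (QuotientGroup.mk'_surjective _),
    hker ▸ Subgroup.zpowers_le.2 cc_center, hker ▸ Subgroup.zpowers_le.2 cc_comm⟩, hker⟩

/-- The Schur multiplier of F4 over two elements. -/
theorem multiplier_F4_two (hF : Fintype.card F = 2) : Cfsg.HasCyclicSchurMultiplier ↥(chevF4.group F) 2 := by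
  refine Cfsg.Lib.Schur.hasCyclicSchurMultiplier_of 2 ?_ fun Γ _ _ σ hσ => kernel_bound hF σ hσ
  obtain ⟨σ, ⟨hs, hz, hd⟩, hker⟩ := exists_cover (F := F) hF
  let e : ULift.{u} ↥cover ≃* ↥cover := MulEquiv.ulift
  refine ⟨ULift.{u} ↥cover, inferInstance, inferInstance, σ.comp e.toMonoidHom, ⟨hs.comp e.surjective, ?_, ?_⟩, ?_⟩
  · intro x hx
    exact Subgroup.mem_center_iff.2 fun g => e.injective (by
      rw [map_mul, map_mul]; exact Subgroup.mem_center_iff.1 (hz hx) (e g))
  · intro x hx
    have h : (commutator (ULift.{u} ↥cover)).map e.toMonoidHom = commutator ↥cover := by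
      rw [commutator_def, commutator_def, Subgroup.map_commutator, Subgroup.map_top_of_surjective _ e.surjective]
    have hx' : e x ∈ (commutator (ULift.{u} ↥cover)).map e.toMonoidHom := h ▸ hd hx
    obtain ⟨z, hz', he⟩ := hx'
    rwa [← e.injective he]
  · have hcard : Nat.card (σ.comp e.toMonoidHom).ker = 2 := by
      rw [Nat.card_congr (e.toEquiv.subtypeEquiv (p := fun x => x ∈ (σ.comp e.toMonoidHom).ker)
        (q := fun x => x ∈ σ.ker) fun _ => Iff.rfl), hker, Nat.card_zpowers, orderOf_eq_prime cc_sq cc_ne]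
    exact ⟨isCyclic_of_prime_card hcard, hcard⟩

end Cfsg.Lib.Chev.Univ.FTwo
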