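import Cfsg.Agent.Chev.Univ.FTwo.Checks
import Cfsg.Agent.Chev.Univ.Multi.Main

/-! Homomorphisms from the Steinberg group of F4 over two elements given by the relations of the table. -/

set_option autoImplicit false

open Cfsg.Lie

namespace Cfsg.Lib.Chev.Univ.FTwo

theorem neg_eq {r : ℕ} (hr : r < 48) : chevF4.neg r = 47 - r := by
  have : ((List.range 48).all fun r => Nat.beq (chevF4.neg r) (47 - r)) = true := by decide +kernel
  exact Nat.eq_of_beq_eq_true (List.all_eq_true.1 this r (List.mem_range.2 hr))

theorem nroots_eq : chevF4.nroots = 48 := by decide +kernel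

theorem beq_false {a b : ℕ} (h : a ≠ b) : Nat.beq a b = false :=
  Bool.eq_false_iff.2 fun e => h (Nat.eq_of_beq_eq_true e)

theorem blt_true {a b : ℕ} (h : a < b) : Nat.blt a b = true := Nat.ble_eq_true_of_le h

theorem valid_lt {r s : ℕ} (h1 : r < s) (h2 : s < 48) (h3 : r + s ≠ 47) : valid r s = true := by
  simp [valid, blt_true (show r < 48 by omega), blt_true h2, blt_true h1, beq_false h3]

theorem valid_self {r : ℕ} (h : r < 48) : valid r r = true := by
  simp [valid, blt_true h, Nat.beq_refl]

variable {Q : Type*} [Group Q]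

/-- The relations of the table hold. -/
def Rels (q : ℕ → Q) : Prop := ∀ r s, valid r s = true → val q (lhs r s) = val q (rhs r s)

theorem Rels.sq {q : ℕ → Q} (h : Rels q) {r : ℕ} (hr : r < 48) : q r * q r = 1 := by
  simpa [lhs, rhs, val] using h r r (valid_self hr)

theorem Rels.swap {q : ℕ → Q} (h : Rels q) {r s : ℕ} (h1 : r < s) (h2 : s < 48) (h3 : r + s ≠ 47) :
    q s * q r = q r * q s * val q (terms r s) := by
  simpa [lhs, rhs, val, beq_false h1.ne, mul_assoc] using h r s (valid_lt h1 h2 h3)

theorem val_reverse {q : ℕ → Q} : ∀ {l : List ℕ}, (∀ a ∈ l, q a * q a = 1) → val q l.reverse = (val q l)⁻¹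
  | [], _ => by simp [val]
  | a :: l, h => by
    rw [List.reverse_cons, val_append, val_reverse fun b hb => h b (List.mem_cons_of_mem _ hb)]
    simp [val, inv_eq_of_mul_eq_one_right (h a List.mem_cons_self)]

theorem oddT_lt {r s a : ℕ} (hr : r < 48) (hs : s < 48) (ha : a ∈ oddT r s) : a < 48 := by
  simp only [oddT, List.mem_map, List.mem_filter] at ha
  obtain ⟨q, ⟨hq, -⟩, rfl⟩ := ha
  have := Ok.commTerms_lt F4.okChain_ (by rw [nroots_eq]; exact hr) (by rw [nroots_eq]; exact hs) hq
  rwa [nroots_eq] at this

theorem Rels.formula {q : ℕ → Q} (h : Rels q) {r s : ℕ} (hr : r < 48) (hs : s < 48) (h1 : s ≠ r)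
    (h3 : r + s ≠ 47) : q s * q r = q r * q s * val q (oddT r s) := by
  have ht := List.all_eq_true.1 (List.all_eq_true.1 table_ok r (List.mem_range.2 hr)) s (List.mem_range.2 hs)
  simp only [Bool.or_eq_true, Bool.and_eq_true, Nat.beq_eq, show r ≠ s from Ne.symm h1, h3, false_or] at ht
  rcases lt_or_gt_of_ne (Ne.symm h1) with h2 | h2
  · have e : Nat.blt r s = true := blt_true h2
    rw [e, cond_true] at ht
    rw [eqL_eq ht.2]
    exact h.swap h2 hs h3
  · have e : Nat.blt r s = false := by
      rw [Bool.eq_false_iff]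
      intro e
      exact absurd (Nat.le_of_ble_eq_true e) (by omega)
    rw [e, cond_false, Bool.or_eq_true, Bool.and_eq_true] at ht
    have key : val q (oddT r s) = (val q (terms s r))⁻¹ := by
      have hlt : ∀ a ∈ terms s r, a < 48 := by
        intro a ha
        rcases ht.2 with e | ⟨e, -⟩
        · exact oddT_lt hr hs (by rw [eqL_eq e]; exact List.mem_reverse.2 ha)
        · exact oddT_lt hr hs (by rw [eqL_eq e]; exact ha)
      have hrev := val_reverse (q := q) (l := terms s r) fun a ha => h.sq (hlt a ha)
      rcases ht.2 with e | ⟨e, e2⟩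
      · rw [eqL_eq e, hrev]
      · rw [eqL_eq e, ← hrev]
        revert e2 hlt
        generalize terms s r = T
        intro hlt e2
        match T with
        | [] => rfl
        | [a] => rfl
        | [a, b] =>
          simp only [Bool.and_eq_true, Bool.not_eq_true', ← Bool.not_eq_true, Nat.beq_eq] at e2
          obtain ⟨⟨hab, hab'⟩, e2⟩ := e2
          have ha := hlt a List.mem_cons_self
          have hb := hlt b (List.mem_cons_of_mem _ List.mem_cons_self)
          have := h.swap (r := min a b) (s := max a b) (by omega) (by omega) (by omega)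
          rw [eqL_eq e2] at this
          simp only [val, List.map_cons, List.map_nil, List.prod_cons, List.prod_nil, mul_one,
            List.reverse_cons, List.reverse_nil, List.nil_append, List.cons_append] at this ⊢
          rcases le_total a b with hl | hl
          · rw [min_eq_left hl, max_eq_right hl] at this
            exact this.symm
          · rw [min_eq_right hl, max_eq_left hl] at this
            exact this
        | _ :: _ :: _ :: _ => simp at e2
    rw [key, h.swap h2 hr (by omega), mul_inv_cancel_right]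

variable {F : Type*} [Field F] [Fintype F]

omit [Group Q] in
theorem eq_zero_or_one (hF : Fintype.card F = 2) (t : F) : t = 0 ∨ t = 1 := by
  classical
  by_contra h
  push Not at h
  have := Finset.card_le_univ ({0, 1, t} : Finset F)
  rw [hF, Finset.card_insert_of_notMem (by simp [h.1.symm]), Finset.card_insert_of_notMem (by simp [h.2.symm]),
    Finset.card_singleton] at this
  omega

omit [Group Q] in
theorem two_eq_zero (hF : Fintype.card F = 2) : (2 : F) = 0 := by
  rcases eq_zero_or_one hF (2 : F) with h | h
  · exact h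
  · exact absurd (show (1 : F) = 0 by linear_combination h) one_ne_zero

omit [Group Q] in
theorem intCast_eq (hF : Fintype.card F = 2) (m : ℤ) : (m : F) = if m.natAbs % 2 = 1 then 1 else 0 := by
  have h2 := two_eq_zero hF
  rcases Int.even_or_odd m with ⟨k, rfl⟩ | ⟨k, rfl⟩
  · rw [if_neg (by omega)]
    push_cast
    linear_combination (k : F) * h2
  · rw [if_pos (by omega)]
    push_cast
    linear_combination (k : F) * h2

/-- The map on generators. -/
noncomputable def gmap (q : ℕ → Q) (r : ℕ) (t : F) : Q := haveI := Classical.decEq F; if t = 0 then 1 else q r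

theorem gmap_commWord (hF : Fintype.card F = 2) (q : ℕ → Q) (t u : F) (ht : t ≠ 0) (hu : u ≠ 0) :
    ∀ L : List (ℕ × ℤ × ℕ × ℕ),
      ((L.map fun c => (c.1, (c.2.1 : F) * (-t) ^ c.2.2.1 * u ^ c.2.2.2)).map fun p => gmap q p.1 p.2).prod =
        val q ((L.filter fun c => Nat.beq (c.2.1.natAbs % 2) 1).map Prod.fst)
  | [] => by simp [val]
  | c :: L => by
    rw [List.map_cons, List.map_cons, List.prod_cons, gmap_commWord hF q t u ht hu L, List.filter_cons]
    obtain rfl := (eq_zero_or_one hF t).resolve_left ht
    obtain rfl := (eq_zero_or_one hF u).resolve_left hu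
    have hm : (-1 : F) = 1 := by linear_combination -two_eq_zero hF
    rw [gmap, hm, one_pow, one_pow, mul_one, mul_one, intCast_eq hF]
    by_cases hc : c.2.1.natAbs % 2 = 1
    · rw [if_pos hc, if_neg one_ne_zero, hc]
      rfl
    · rw [if_neg hc, if_pos rfl, one_mul, beq_false hc]
      rfl

/-- A family satisfying the relations of the table gives a map of the group presented by (R1) and (R2). -/
theorem hom_cover (hF : Fintype.card F = 2) {q : ℕ → Q} (h : Rels q) :
    ∃ τ : chevF4.SteinbergCover F →* Q, ∀ r < 48, ∀ t, τ (chevF4.scGen F r t) = gmap q r t := by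
  have hx : ∀ (r : ℕ) (t : F), r < 48 →
      FreeGroup.lift (fun p : Fin chevF4.nroots × F => gmap q p.1.val p.2) (chevF4.stX r t) = gmap q r t := by
    intro r t hr
    rw [ChevalleyDatum.stX, dif_pos (by rw [nroots_eq]; exact hr), FreeGroup.lift_apply_of]
  have hrel : ∀ g ∈ chevF4.steinbergRelsAB F,
      FreeGroup.lift (fun p : Fin chevF4.nroots × F => gmap q p.1.val p.2) g = 1 := by
    rintro g (⟨r, t, u, hr, rfl⟩ | ⟨r, s, t, u, hr, hs, h1, h2, rfl⟩)
    · rw [nroots_eq] at hr
      rw [map_mul, map_mul, map_inv, hx r _ hr, hx r _ hr, hx r _ hr, mul_inv_eq_one]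
      rcases eq_zero_or_one hF t with rfl | rfl <;> rcases eq_zero_or_one hF u with rfl | rfl <;>
        simp [gmap, one_add_one_eq_two, two_eq_zero hF, h.sq hr]
    · rw [nroots_eq] at hr hs
      rw [neg_eq hr] at h2
      have h3 : r + s ≠ 47 := by omega
      have hw : ∀ p ∈ chevF4.commWord F r s t u, p.1 < 48 := by
        intro p hp
        simp only [ChevalleyDatum.commWord, List.mem_map] at hp
        obtain ⟨c, hc, rfl⟩ := hp
        have := Ok.commTerms_lt F4.okChain_ (by rw [nroots_eq]; exact hr) (by rw [nroots_eq]; exact hs) hc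
        rwa [nroots_eq] at this
      have hword : FreeGroup.lift (fun p : Fin chevF4.nroots × F => gmap q p.1.val p.2)
          (chevF4.stWord (chevF4.commWord F r s t u)) =
            ((chevF4.commWord F r s t u).map fun p => gmap q p.1 p.2).prod := by
        rw [ChevalleyDatum.stWord, map_list_prod, List.map_map]
        exact congrArg List.prod (List.map_congr_left fun p hp => hx _ _ (hw p hp))
      simp only [map_mul, map_inv, hx r _ hr, hx s _ hs, hword]
      rw [ChevalleyDatum.commWord]
      rw [mul_inv_eq_one]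
      by_cases h0 : t ≠ 0 ∧ u ≠ 0
      · rw [gmap_commWord hF q t u h0.1 h0.2]
        simp only [gmap, if_neg h0.1, if_neg h0.2]
        rw [mul_assoc _ (q s) (q r), h.formula hr hs h1 h3, oddT, inv_eq_of_mul_eq_one_right (h.sq hr),
          inv_eq_of_mul_eq_one_right (h.sq hs)]
        simp only [mul_assoc]
        rw [← mul_assoc (q r) (q r), h.sq hr, one_mul, ← mul_assoc (q s) (q s), h.sq hs, one_mul]
      · have ht := List.all_eq_true.1 (List.all_eq_true.1 table_ok r (List.mem_range.2 hr)) s (List.mem_range.2 hs)
        simp only [Bool.or_eq_true, Bool.and_eq_true, Nat.beq_eq, show r ≠ s from Ne.symm h1, h3, false_or,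
          List.all_eq_true] at ht
        rw [List.prod_eq_one (l := List.map _ _) ?_]
        · rcases not_and_or.1 h0 with e | e <;> rw [not_not] at e <;> subst e <;>
            rw [gmap, gmap, if_pos rfl] <;> group
        · intro x hx'
          simp only [List.mem_map] at hx'
          obtain ⟨p, ⟨c, hc, rfl⟩, rfl⟩ := hx'
          have hij := ht.1 c hc
          simp only [Nat.blt, Nat.ble_eq] at hij
          rw [gmap, if_pos]
          rcases not_and_or.1 h0 with e | e <;> rw [not_not] at e <;> subst e <;>
            simp [zero_pow (show c.2.2.1 ≠ 0 by omega), zero_pow (show c.2.2.2 ≠ 0 by omega)]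
  refine ⟨PresentedGroup.toGroup hrel, fun r hr t => ?_⟩
  rw [ChevalleyDatum.scGen, ChevalleyDatum.stX, dif_pos (by rw [nroots_eq]; exact hr)]
  exact PresentedGroup.toGroup.of _

omit [Group Q] in
/-- The structure of the datum. -/
theorem struct : Struct chevF4 F4.cert := ⟨F4.ok, F4.okChain_, F4.okBase_all, okOrder_F4⟩

/-- A family satisfying the relations of the table gives a map of the Steinberg group. -/
theorem hom_steinberg (hF : Fintype.card F = 2) {q : ℕ → Q} (h : Rels q) :
    ∃ τ : chevF4.SteinbergGroup F →* Q, ∀ r < 48, τ (St.pgen (chevF4.steinbergRels F) r 1) = q r := by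
  obtain ⟨τ₀, hτ₀⟩ := hom_cover hF h
  have hN : okNeg chevF4 = true := okNeg_F4
  have okS : ∃ W, St.okSt chevF4 F4.cert W = true := ⟨_, St.okSt_F4⟩
  have hθc : ∀ r < chevF4.nroots, ∀ t,
      St.toChev struct (St.ab_subset (D := chevF4)) (St.pgen (chevF4.steinbergRelsAB F) r t) =
        struct.ok.xG r t := fun r hr t => St.toChev_pgen struct _ hr t
  set Pc := St.presentedPres struct hN okS (subset_refl (chevF4.steinbergRelsAB F)) _ hθc
  have h3 := Pc.r3_all (St.presentedPres_gen_top struct hN okS (subset_refl (chevF4.steinbergRelsAB F)) _ hθc)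
  let f : Fin chevF4.nroots × F → Q := fun p => τ₀ (PresentedGroup.of p)
  have hf : FreeGroup.lift f = τ₀.comp (PresentedGroup.mk (chevF4.steinbergRelsAB F)) :=
    FreeGroup.ext_hom _ _ fun p => by rw [FreeGroup.lift_apply_of]; rfl
  have hrel : ∀ g ∈ chevF4.steinbergRels F, FreeGroup.lift f g = 1 := by
    intro g hg
    rw [hf, MonoidHom.comp_apply]
    have h1 : PresentedGroup.mk (chevF4.steinbergRelsAB F) g = 1 := by
      rcases hg with hg | ⟨r, t, u, hr, ht, hu, rfl⟩
      · exact St.mk_eq_one_of_mem hg
      · have := h3 r hr t u ht hu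
        simp only [Pc, St.presentedPres_hh] at this
        rw [map_mul, map_mul, map_inv, this, mul_inv_cancel]
    rw [h1, map_one]
  refine ⟨PresentedGroup.toGroup hrel, fun r hr => ?_⟩
  have hr' : r < chevF4.nroots := by rw [nroots_eq]; exact hr
  rw [St.pgen, ChevalleyDatum.stX, dif_pos hr']
  refine (PresentedGroup.toGroup.of hrel).trans ?_
  have := hτ₀ r hr 1
  rw [show chevF4.scGen F r 1 = PresentedGroup.of (⟨r, hr'⟩, (1 : F)) from pgen_eq_of _ (⟨r, hr'⟩, (1 : F))] at this
  simpa [gmap, f] using this

end Cfsg.Lib.Chev.Univ.FTwo
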