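import Mathlib.Data.ZMod.Basic
import Mathlib.Data.List.GetD
import Mathlib.Data.Matrix.Mul
import Mathlib.Algebra.BigOperators.Group.Finset.Basic

/-! Square matrices of size fifty-two over three elements, packed into numbers with fields of eight bits. -/

set_option autoImplicit false
set_option maxRecDepth 20000

namespace Cfsg.Lib.Chev.Univ.FTwo.Pack

open Finset

/-- A field of eight bits. -/
def fld (k x : ℕ) : ℕ := x / 256 ^ k % 256

/-- The number with given fields. -/
def enc (f : ℕ → ℕ) (n : ℕ) : ℕ := ∑ k ∈ range n, f k * 256 ^ k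

theorem fld_lt (k x : ℕ) : fld k x < 256 := Nat.mod_lt _ (by omega)

theorem enc_lt {f : ℕ → ℕ} : ∀ {n : ℕ}, (∀ k < n, f k < 256) → enc f n < 256 ^ n
  | 0, _ => by simp [enc]
  | n + 1, h => by
    have h1 := enc_lt (n := n) fun k hk => h k (by omega)
    have h2 : f n * 256 ^ n ≤ 255 * 256 ^ n := Nat.mul_le_mul_right _ (by have := h n (by omega); omega)
    rw [enc, sum_range_succ, ← enc, pow_succ]
    omega

theorem fld_enc {f : ℕ → ℕ} : ∀ {n k : ℕ}, (∀ i < n, f i < 256) → k < n → fld k (enc f n) = f k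
  | 0, _, _, h => absurd h (by omega)
  | n + 1, k, h, hk => by
    have h1 := enc_lt (n := n) fun i hi => h i (by omega)
    rw [enc, sum_range_succ, ← enc, fld]
    rcases Nat.lt_succ_iff_lt_or_eq.1 hk with hk' | rfl
    · obtain ⟨d, rfl⟩ : ∃ d, n = k + (d + 1) := ⟨n - k - 1, by omega⟩
      rw [pow_add, mul_comm (256 ^ k) (256 ^ (d + 1)), ← mul_assoc, Nat.add_mul_div_right _ _ (Nat.pow_pos (by norm_num)),
        pow_succ, ← mul_assoc, Nat.add_mul_mod_self_right]
      exact fld_enc (fun i hi => h i (by omega)) hk'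
    · rw [Nat.add_mul_div_right _ _ (Nat.pow_pos (by norm_num)), Nat.div_eq_of_lt h1, zero_add, Nat.mod_eq_of_lt (h _ (by omega))]

theorem enc_fld (x : ℕ) : ∀ n, enc (fun k => fld k x) n = x % 256 ^ n
  | 0 => by simp [enc, Nat.mod_one]
  | n + 1 => by
    rw [enc, sum_range_succ, ← enc, enc_fld x n, Nat.mod_pow_succ, fld, mul_comm]

theorem eq_enc {x n : ℕ} (h : x < 256 ^ n) : x = enc (fun k => fld k x) n := by
  rw [enc_fld, Nat.mod_eq_of_lt h]

theorem enc_congr {f g : ℕ → ℕ} {n : ℕ} (h : ∀ k < n, f k = g k) : enc f n = enc g n :=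
  sum_congr rfl fun k hk => by rw [h k (mem_range.1 hk)]

theorem enc_add (f g : ℕ → ℕ) (n : ℕ) : enc f n + enc g n = enc (fun k => f k + g k) n := by
  rw [enc, enc, ← sum_add_distrib]
  exact sum_congr rfl fun k _ => (add_mul _ _ _).symm

theorem enc_mul (c : ℕ) (f : ℕ → ℕ) (n : ℕ) : c * enc f n = enc (fun k => c * f k) n := by
  rw [enc, mul_sum]
  exact sum_congr rfl fun k _ => (mul_assoc _ _ _).symm

theorem fld_and (k x y : ℕ) : fld k (x &&& y) = fld k x &&& fld k y := by
  simp only [fld, show (256 : ℕ) = 2 ^ 8 by rfl, ← pow_mul, Nat.and_div_two_pow, Nat.and_mod_two_pow]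

theorem fld_shift (k x i : ℕ) : fld k (x >>> (8 * i)) = fld (i + k) x := by
  rw [fld, fld, Nat.shiftRight_eq_div_pow, Nat.div_div_eq_div_mul, pow_mul, pow_add]
  rfl

/-- The number of fields. -/
def NF : ℕ := 52 * 52

theorem NF_eq : NF = 2704 := rfl

/-- Each field equal to a constant. -/
def rep (c : ℕ) : ℕ := c * ((256 ^ NF - 1) / 255)

/-- The first field of every row. -/
def colMask : ℕ := 255 * ((256 ^ NF - 1) / (256 ^ 52 - 1))

/-- The identity matrix. -/
def one : ℕ := (256 ^ (53 * 52) - 1) / (256 ^ 53 - 1)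

theorem masks_ok : (rep 1 < 256 ^ NF ∧ rep 3 < 256 ^ NF ∧ rep 63 < 256 ^ NF ∧ colMask < 256 ^ NF ∧
      one < 256 ^ NF) ∧
    ((List.range NF).all fun k => Nat.beq (fld k (rep 1)) 1 && Nat.beq (fld k (rep 3)) 3 &&
      Nat.beq (fld k (rep 63)) 63 && Nat.beq (fld k colMask) (bif Nat.beq (k % 52) 0 then 255 else 0) &&
      Nat.beq (fld k one) (bif Nat.beq (k / 52) (k % 52) then 1 else 0)) = true := by
  decide +kernel

theorem fld_masks {k : ℕ} (hk : k < NF) : fld k (rep 1) = 1 ∧ fld k (rep 3) = 3 ∧ fld k (rep 63) = 63 ∧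
    fld k colMask = (bif Nat.beq (k % 52) 0 then 255 else 0) ∧
    fld k one = (bif Nat.beq (k / 52) (k % 52) then 1 else 0) := by
  have h := List.all_eq_true.1 masks_ok.2 k (List.mem_range.2 hk)
  simp only [Bool.and_eq_true] at h
  obtain ⟨⟨⟨⟨h1, h2⟩, h3⟩, h4⟩, h5⟩ := h
  exact ⟨Nat.eq_of_beq_eq_true h1, Nat.eq_of_beq_eq_true h2, Nat.eq_of_beq_eq_true h3, Nat.eq_of_beq_eq_true h4,
    Nat.eq_of_beq_eq_true h5⟩

theorem and_mask {x m : ℕ} (hm : m < 256 ^ NF) : x &&& m = enc (fun k => fld k x &&& fld k m) NF := by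
  rw [eq_enc (lt_of_le_of_lt Nat.and_le_right hm : x &&& m < 256 ^ NF)]
  exact enc_congr fun k _ => fld_and k x m

/-- One step of reduction modulo three in each field. -/
def red (x : ℕ) : ℕ := (x &&& rep 3) + ((x >>> 2) &&& rep 63)

theorem red_eq (x : ℕ) : red x = enc (fun k => fld k x % 4 + fld k x / 4) NF := by
  rw [red, and_mask masks_ok.1.2.1, and_mask masks_ok.1.2.2.1, enc_add]
  refine enc_congr fun k hk => ?_
  obtain ⟨-, h3, h63, -, -⟩ := fld_masks hk
  rw [h3, h63]
  rw [show (fld k x &&& 3) = fld k x % 4 from Nat.and_two_pow_sub_one_eq_mod _ 2,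
    show (fld k (x >>> 2) &&& 63) = fld k (x >>> 2) % 64 from Nat.and_two_pow_sub_one_eq_mod _ 6]
  congr 1
  rw [fld, fld, Nat.shiftRight_eq_div_pow, Nat.div_div_eq_div_mul, mul_comm, ← Nat.div_div_eq_div_mul]
  omega

theorem fld_red {k : ℕ} (hk : k < NF) (x : ℕ) : fld k (red x) = fld k x % 4 + fld k x / 4 := by
  rw [red_eq, fld_enc _ hk]
  intro i _
  have := fld_lt i x
  omega

/-- Reduction modulo three in each field. -/
def norm (x : ℕ) : ℕ :=
  let y := red (red (red (red x)))
  y - 3 * (y &&& (y >>> 1) &&& rep 1)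

/-- One step on a field. -/
def red1 (a : ℕ) : ℕ := a % 4 + a / 4

theorem red_four : ∀ a < 256, red1 (red1 (red1 (red1 a))) ≤ 3 ∧
    red1 (red1 (red1 (red1 a))) - 3 * (red1 (red1 (red1 (red1 a))) &&& (red1 (red1 (red1 (red1 a))) / 2 % 2)) =
      a % 3 := by
  decide +kernel

theorem norm_eq (x : ℕ) : norm x = enc (fun k => fld k x % 3) NF := by
  set y := red (red (red (red x))) with hy
  have hy1 : ∀ k < NF, fld k y = red1 (red1 (red1 (red1 (fld k x)))) := fun k hk => by
    rw [hy, fld_red hk, fld_red hk, fld_red hk, fld_red hk]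
    rfl
  have hylt : y < 256 ^ NF := by
    rw [hy, red_eq]
    refine enc_lt fun i _ => ?_
    have := fld_lt i (red (red (red x)))
    omega
  have hb : y &&& (y >>> 1) &&& rep 1 = enc (fun k => fld k y &&& (fld k y / 2 % 2)) NF := by
    rw [and_mask masks_ok.1.1]
    refine enc_congr fun k hk => ?_
    rw [(fld_masks hk).1, fld_and, Nat.and_assoc,
      show (fld k (y >>> 1) &&& 1) = fld k (y >>> 1) % 2 from Nat.and_two_pow_sub_one_eq_mod _ 1]
    congr 1
    rw [fld, fld, Nat.shiftRight_eq_div_pow, Nat.div_div_eq_div_mul, mul_comm, ← Nat.div_div_eq_div_mul]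
    omega
  have hsum : y = enc (fun k => fld k x % 3) NF + 3 * (y &&& (y >>> 1) &&& rep 1) := by
    rw [hb, enc_mul, enc_add]
    conv_lhs => rw [eq_enc hylt]
    refine enc_congr fun k hk => ?_
    rw [hy1 k hk]
    obtain ⟨h1, h2⟩ := red_four _ (fld_lt k x)
    have h3 : ∀ a ≤ 3, 3 * (a &&& (a / 2 % 2)) ≤ a := by decide
    have := h3 _ h1
    omega
  show y - 3 * (y &&& (y >>> 1) &&& rep 1) = _
  omega

theorem fld_norm {k : ℕ} (hk : k < NF) (x : ℕ) : fld k (norm x) = fld k x % 3 := by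
  rw [norm_eq, fld_enc _ hk]
  intro i _
  omega

theorem norm_lt (x : ℕ) : norm x < 256 ^ NF := by
  rw [norm_eq]
  exact enc_lt fun i _ => by omega

theorem fld_norm_le (k x : ℕ) : fld k (norm x) ≤ 2 := by
  by_cases hk : k < NF
  · rw [fld_norm hk]; omega
  · rw [fld, Nat.div_eq_of_lt (lt_of_lt_of_le (norm_lt x) (Nat.pow_le_pow_right (by omega) (by omega)))]
    simp

/-- The unreduced product of a packed matrix with a list of rows. -/
def mulGo : List ℕ → ℕ → ℕ
  | [], _ => 0
  | r :: rs, M => (M &&& colMask) * r + mulGo rs (M >>> 8)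

/-- An entry of the product. -/
def dotGo : List ℕ → ℕ → ℕ → ℕ → ℕ
  | [], _, _, _ => 0
  | r :: rs, M, i, j => fld (52 * i) M * fld j r + dotGo rs (M >>> 8) i j

theorem sum_rows (g : ℕ → ℕ) : ∀ m, ∑ k ∈ range (52 * m), g k = ∑ i ∈ range m, ∑ j ∈ range 52, g (52 * i + j)
  | 0 => by simp
  | m + 1 => by
    rw [Nat.mul_succ, sum_range_add, sum_rows g m]
    exact (sum_range_succ (fun i => ∑ j ∈ range 52, g (52 * i + j)) m).symm

theorem enc_rows (f : ℕ → ℕ) :
    enc f NF = ∑ i ∈ range 52, ∑ j ∈ range 52, f (52 * i + j) * 256 ^ (52 * i + j) :=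
  sum_rows (fun k => f k * 256 ^ k) 52

theorem mulGo_eq : ∀ (rows : List ℕ) (M : ℕ), (∀ r ∈ rows, r < 256 ^ 52) →
    mulGo rows M = enc (fun k => dotGo rows M (k / 52) (k % 52)) NF
  | [], M, _ => by simp [mulGo, dotGo, enc]
  | r :: rs, M, h => by
    rw [mulGo, mulGo_eq rs _ fun x hx => h x (List.mem_cons_of_mem _ hx)]
    simp only [dotGo]
    rw [← enc_add]
    refine congrArg (· + enc (fun k => dotGo rs (M >>> 8) (k / 52) (k % 52)) NF) ?_
    have hc : M &&& colMask = ∑ i ∈ range 52, fld (52 * i) M * 256 ^ (52 * i) := by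
      rw [and_mask masks_ok.1.2.2.2.1, enc_rows]
      refine sum_congr rfl fun i hi => ?_
      rw [sum_eq_single 0]
      · rw [add_zero, (fld_masks (k := 52 * i) (by have := mem_range.1 hi; rw [NF_eq]; omega)).2.2.2.1,
          Nat.mul_mod_right, show (bif Nat.beq 0 0 then (255 : ℕ) else 0) = 255 from rfl,
          show (fld (52 * i) M &&& 255) = fld (52 * i) M % 256 from Nat.and_two_pow_sub_one_eq_mod _ 8,
          Nat.mod_eq_of_lt (fld_lt _ _)]
      · intro j hj hj0
        rw [(fld_masks (k := 52 * i + j) (by have := mem_range.1 hi; have := mem_range.1 hj; rw [NF_eq]; omega)).2.2.2.1,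
          show (52 * i + j) % 52 = j by have := mem_range.1 hj; omega,
          show Nat.beq j 0 = false from Bool.eq_false_iff.2 fun e => hj0 (Nat.eq_of_beq_eq_true e), cond_false,
          Nat.and_zero, zero_mul]
      · simp
    conv_lhs => rw [hc, eq_enc (h r List.mem_cons_self)]
    rw [enc_rows, enc, sum_mul_sum]
    refine sum_congr rfl fun i _ => sum_congr rfl fun j hj => ?_
    have := mem_range.1 hj
    rw [show (52 * i + j) / 52 = i by omega, show (52 * i + j) % 52 = j by omega, pow_add]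
    ring

theorem dotGo_sum : ∀ (rows : List ℕ) (M i j : ℕ),
    dotGo rows M i j = ∑ a ∈ range rows.length, fld (52 * i + a) M * fld j (rows.getD a 0)
  | [], _, _, _ => by simp [dotGo]
  | r :: rs, M, i, j => by
    rw [dotGo, dotGo_sum rs, List.length_cons, sum_range_succ', add_comm]
    refine congrArg₂ _ (sum_congr rfl fun a _ => ?_) ?_
    · rw [show fld (52 * i + a) (M >>> 8) = fld (52 * i + a) (M >>> (8 * 1)) from rfl, fld_shift,
        List.getD_cons_succ, show 1 + (52 * i + a) = 52 * i + (a + 1) by omega]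
    · rw [add_zero, List.getD_cons_zero]

/-- The matrix of a packed number. -/
def mat (M : ℕ) : Matrix (Fin 52) (Fin 52) (ZMod 3) := Matrix.of fun i j => (fld (52 * i.val + j.val) M : ZMod 3)

/-- The matrix of a list of rows. -/
def rowMat (A : List ℕ) : Matrix (Fin 52) (Fin 52) (ZMod 3) :=
  Matrix.of fun i j => (fld j.val (A.getD i.val 0) : ZMod 3)

/-- A list of rows of a matrix with entries at most two. -/
def rowsOK (A : List ℕ) : Bool :=
  Nat.beq A.length 52 && A.all fun r => Nat.blt r (256 ^ 52) && Nat.beq (norm r) r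

/-- The product. -/
def mulN (M : ℕ) (A : List ℕ) : ℕ := norm (mulGo A M)

theorem mat_mulN {M : ℕ} {A : List ℕ} (hM : ∀ k, fld k M ≤ 2) (hA : rowsOK A = true) :
    mat (mulN M A) = mat M * rowMat A := by
  simp only [rowsOK, Bool.and_eq_true, List.all_eq_true] at hA
  obtain ⟨hlen, hA⟩ := hA
  replace hlen := Nat.eq_of_beq_eq_true hlen
  ext i j
  have hi := i.isLt
  have hj := j.isLt
  have hk : 52 * i.val + j.val < NF := by rw [NF_eq]; omega
  have hb : ∀ k < NF, dotGo A M (k / 52) (k % 52) < 256 := by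
    intro k _
    rw [dotGo_sum, hlen]
    refine lt_of_le_of_lt (sum_le_card_nsmul _ _ 4 fun a ha => ?_) (by simp)
    have ha' : a < A.length := hlen ▸ mem_range.1 ha
    rw [List.getD_eq_getElem A 0 ha']
    have h2 : fld (k % 52) A[a] ≤ 2 := by
      rw [← Nat.eq_of_beq_eq_true (hA _ (List.getElem_mem ha')).2]
      exact fld_norm_le _ _
    exact Nat.mul_le_mul (hM _) h2
  show (fld (52 * i.val + j.val) (norm (mulGo A M)) : ZMod 3) = _
  rw [fld_norm hk, ZMod.natCast_mod,
    mulGo_eq A M fun r hr => Nat.le_of_ble_eq_true (hA r hr).1, fld_enc hb hk,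
    show (52 * i.val + j.val) / 52 = i.val by omega, show (52 * i.val + j.val) % 52 = j.val by omega,
    dotGo_sum, hlen, Matrix.mul_apply, Nat.cast_sum, ← Fin.sum_univ_eq_sum_range
      (fun a => ((fld (52 * i.val + a) M * fld j.val (A.getD a 0) : ℕ) : ZMod 3))]
  exact sum_congr rfl fun a _ => Nat.cast_mul _ _

theorem fld_one_le (k : ℕ) : fld k one ≤ 2 := by
  by_cases hk : k < NF
  · rw [(fld_masks hk).2.2.2.2]
    cases Nat.beq (k / 52) (k % 52) <;> simp
  · rw [fld, Nat.div_eq_of_lt (lt_of_lt_of_le masks_ok.1.2.2.2.2 (Nat.pow_le_pow_right (by omega) (by omega)))]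
    simp

theorem mat_one : mat one = 1 := by
  ext i j
  have hi := i.isLt
  have hj := j.isLt
  show (fld (52 * i.val + j.val) one : ZMod 3) = _
  rw [(fld_masks (k := 52 * i.val + j.val) (by rw [NF_eq]; omega)).2.2.2.2,
    show (52 * i.val + j.val) / 52 = i.val by omega, show (52 * i.val + j.val) % 52 = j.val by omega,
    Matrix.one_apply]
  by_cases h : i = j
  · subst h
    simp [Nat.beq_refl]
  · rw [if_neg h, show Nat.beq i.val j.val = false from
      Bool.eq_false_iff.2 fun e => h (Fin.ext (Nat.eq_of_beq_eq_true e))]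
    simp

/-- The product of a word. -/
def evalW (A : List (List ℕ)) (w : List ℕ) : ℕ := w.foldl (fun M r => mulN M (A.getD r [])) one

theorem mat_evalW {A : List (List ℕ)} {w : List ℕ} (hA : ∀ r ∈ w, rowsOK (A.getD r []) = true) :
    mat (evalW A w) = (w.map fun r => rowMat (A.getD r [])).prod := by
  have key : ∀ (w : List ℕ) (M : ℕ), (∀ r ∈ w, rowsOK (A.getD r []) = true) → (∀ k, fld k M ≤ 2) →
      mat (w.foldl (fun M r => mulN M (A.getD r [])) M) = mat M * (w.map fun r => rowMat (A.getD r [])).prod := by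
    intro w
    induction w with
    | nil => intro M _ _; simp
    | cons r w ih =>
      intro M h hM
      rw [List.foldl_cons, ih (mulN M (A.getD r [])) (fun x hx => h x (List.mem_cons_of_mem _ hx))
        (fun k => fld_norm_le k _),
        mat_mulN hM (h r List.mem_cons_self), List.map_cons, List.prod_cons, mul_assoc]
  rw [evalW, key w one hA fld_one_le, mat_one, one_mul]

end Cfsg.Lib.Chev.Univ.FTwo.Pack
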